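import Groth.Agent.H78.FSchBridge.Sys

/-!
# Algebraizations of the direct images are algebraizations of systems
-/

set_option autoImplicit false
set_option linter.style.haveILetI false

noncomputable section

universe u

open CategoryTheory CategoryTheory.Limits AlgebraicGeometry TopologicalSpace Opposite
open Groth.Agent.H30 Groth.Agent.Lib
open Groth.Agent.H78.Formal.Sections Groth.Agent.H78.FSchBridge.Sys

namespace Groth.Agent.Lib.PrincipalAlg.SysIso

variable {A : Type u} [CommRing A] {X : Scheme.{u}} [X.Over (Spec (CommRingCat.of A))]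
  {𝔛 : FSch.Sys.{u}} (h𝔛 : 𝔛.IsLocNoethFormal)
  (p : ∀ n, 𝔛.X n ⟶ X) (hp : ∀ n, 𝔛.ι n ≫ p (n + 1) = p n) [∀ k, IsClosedImmersion (p k)]
  (J : Ideal A) (hI : ∀ k (U : X.affineOpens), (p k).ker.ideal U = sIdeal J U.1 ^ (k + 1))
  (𝔐 : FSch.ModSys 𝔛) [IsLocallyNoetherian X]

include h𝔛 hI in
/-- An algebraization of the formal module of the direct images algebraizes the module of the system. -/
theorem nonempty_iso_pullSys {M : X.Modules} (hM : Coh.IsCoh M)
    (Φ : _root_.Formal.completion J M ≅ Functor.ofOpSequence (X := fun n => G p 𝔐 n) (T p hp 𝔐)) :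
    Nonempty (ComplSec.pullSys p hp M ≅ 𝔐) := by
  haveI := hM.1
  let a : ∀ k, M ⟶ G p 𝔐 k := fun k => _root_.Formal.modPowπ J (k + 1) M ≫ Φ.hom.app (op k)
  have ha : ∀ k, a (k + 1) ≫ T p hp 𝔐 k = a k := fun k => by
    have h1 : (_root_.Formal.completion J M).map (homOfLE (Nat.le_succ k)).op =
        _root_.Formal.modPowTrans J (k + 1) M := by
      simp only [_root_.Formal.completion, Functor.ofOpSequence_map_homOfLE_succ]
    have h2 := Φ.hom.naturality (homOfLE (Nat.le_succ k)).op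
    rw [h1, Functor.ofOpSequence_map_homOfLE_succ] at h2
    change (_root_.Formal.modPowπ J (k + 1 + 1) M ≫ Φ.hom.app (op (k + 1))) ≫ T p hp 𝔐 k = _
    rw [Category.assoc]
    refine Eq.trans (congrArg (_root_.Formal.modPowπ J (k + 1 + 1) M ≫ ·) h2.symm) ?_
    refine (Category.assoc _ _ _).symm.trans ?_
    exact congrArg (· ≫ Φ.hom.app (op k)) (_root_.Formal.modPowπ_trans J (k + 1) M)
  let φ : ∀ k, (Scheme.Modules.pullback (p k)).obj M ⟶ 𝔐.F k := fun k =>
    ((Scheme.Modules.pullbackPushforwardAdjunction (p k)).homEquiv _ _).symm (a k)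
  have hφ : ∀ k, (Scheme.Modules.pullbackPushforwardAdjunction (p k)).unit.app M ≫
      (Scheme.Modules.pushforward (p k)).map (φ k) = a k := fun k => by
    exact ((Scheme.Modules.pullbackPushforwardAdjunction (p k)).homEquiv_unit M (𝔐.F k) (φ k)).symm.trans
      (Equiv.apply_symm_apply _ _)
  have hφe : ∀ k (U : X.Opens) (m : Γ(M, U)),
      (φ k).app (p k ⁻¹ᵁ U) (CohDelta.Units.eta (p k) M U m) = (a k).app U m := fun k U m =>
    congr(($(hφ k)).app U m)
  have hiso : ∀ k, IsIso (φ k) := fun k => by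
    haveI := HLim.isIso_dd p J hI M hM.1 k
    haveI : Epi (_root_.Formal.modPowπ J (k + 1) M) := inferInstanceAs (Epi (cokernel.π _))
    have h1 : HLim.dd p J hI M hM.1 k ≫ (Scheme.Modules.pushforward (p k)).map (φ k) = Φ.hom.app (op k) := by
      rw [← cancel_epi (_root_.Formal.modPowπ J (k + 1) M), ← Category.assoc]
      exact (congrArg (· ≫ (Scheme.Modules.pushforward (p k)).map (φ k))
        (HLim.exists_iso_modPow p J hI M hM.1 k).choose_spec.2).trans (hφ k)
    haveI : IsIso (HLim.dd p J hI M hM.1 k ≫ (Scheme.Modules.pushforward (p k)).map (φ k)) := by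
      rw [h1]; exact inferInstanceAs (IsIso (Φ.app (op k)).hom)
    exact isIso_of_isIso_push (p k) (φ k) (IsIso.of_isIso_comp_left (HLim.dd p J hI M hM.1 k) _)
  have hcomm : ∀ k, (ComplSec.pullSys p hp M).toPush k ≫ (Scheme.Modules.pushforward (𝔛.ι k)).map (φ k) =
      φ (k + 1) ≫ 𝔐.toPush k := by
    intro k
    refine PullFSys.hom_ext_eta (p (k + 1)) fun U m => ?_
    refine (CohSys.restrict_bijective (𝔐.F k) (preimage_eq p hp k U).le (preimage_eq p hp k U).ge).1 ?_
    change (𝔐.F k).presheaf.map _ ((φ k).app (𝔛.ι k ⁻¹ᵁ (p (k + 1) ⁻¹ᵁ U))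
        (((ComplSec.pullSys p hp M).toPush k).app (p (k + 1) ⁻¹ᵁ U) (CohDelta.Units.eta (p (k + 1)) M U m))) =
      (𝔐.F k).presheaf.map _ ((𝔐.toPush k).app (p (k + 1) ⁻¹ᵁ U)
        ((φ (k + 1)).app (p (k + 1) ⁻¹ᵁ U) (CohDelta.Units.eta (p (k + 1)) M U m)))
    refine ((φ k).mapPresheaf.naturality_apply (homOfLE (preimage_eq p hp k U).le).op _).symm.trans ?_
    refine Eq.trans ?_ (((congrArg ((T p hp 𝔐 k).app U) (hφe (k + 1) U m)).symm.trans
      (T_app p hp 𝔐 k U _)))
    have h3 : (T p hp 𝔐 k).app U ((a (k + 1)).app U m) = (a k).app U m := congr(($(ha k)).app U m)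
    rw [h3, ← hφe k U m]
    refine congrArg _ ?_
    rw [show ((ComplSec.pullSys p hp M).toPush k).app (p (k + 1) ⁻¹ᵁ U) (CohDelta.Units.eta (p (k + 1)) M U m) =
      _ from toPush_app (ComplSec.pullSys p hp M) k _ _]
    have h4 := ComplSec.res_trans_eta (𝔛.ι k) (p (k + 1)) (p k) (hp k) M U m (p (k + 1) ⁻¹ᵁ U) (p k ⁻¹ᵁ U)
      le_rfl (preimage_eq p hp k U).le le_rfl
    have h5 : ∀ {Z : Scheme.{u}} (N : Z.Modules) (V : Z.Opens) (y : Γ(N, V)),
        N.presheaf.map (homOfLE (le_refl V)).op y = y := fun N V y =>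
      ConcreteCategory.congr_hom (N.presheaf.map_id (op V)) y
    rw [h5, h5] at h4
    exact h4
  refine ⟨?_⟩
  haveI := hiso
  have hc : ∀ k, (Scheme.Modules.pullback (𝔛.ι k)).map (φ (k + 1)) ≫ (𝔐.e k).hom =
      ((ComplSec.pullSys p hp M).e k).hom ≫ φ k := fun k => by
    refine ((Scheme.Modules.pullbackPushforwardAdjunction (𝔛.ι k)).homEquiv _ _).injective ?_
    exact (Adjunction.homEquiv_naturality_left _ _ _).trans ((hcomm k).symm.trans
      (Adjunction.homEquiv_naturality_right _ _ _).symm)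
  let Ψ : ComplSec.pullSys p hp M ⟶ 𝔐 := ⟨φ, hc⟩
  exact isoOfApp Ψ fun k => hiso k

end Groth.Agent.Lib.PrincipalAlg.SysIso
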