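import Groth.Agent.Lib.PrincipalAlg.Transfer
import Groth.Agent.Lib.PrincipalAlg.SysIso
import Groth.Agent.H30.FSch.ComplSec
import Groth.Agent.H30.FSch.ComplHom
import Groth.Agent.S3854

/-!
# Algebraization of modules on a completion along a principal ideal
-/

set_option autoImplicit false
set_option linter.style.haveILetI false
set_option maxHeartbeats 800000

universe u

open CategoryTheory CategoryTheory.Limits AlgebraicGeometry Opposite TopologicalSpace

namespace Groth.Agent.Lib.PrincipalAlg.Bridge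

open Groth.Agent.Lib Groth.Agent.H30 Groth.Agent.H78.FSchBridge Groth.Agent.H78.Formal.Sections

section Exact

variable {Z : Scheme.{u}}

/-- A global function restricted to an open. -/
noncomputable abbrev res (V : Z.Opens) (r : Coh.Γtop Z) : Γ(Z, V) := Coh.resTop Z (op V) r

/-- Equality of kernel and image gives exactness on the sections over an affine open. -/
lemma exists_eq_smul_of_kernel_eq_image {M : Z.Modules} [M.IsQuasicoherent] (r : Coh.Γtop Z) (N : ℕ)
    (h : kernelSubobject (_root_.Formal.smulModΓ M (r ^ N)) =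
      imageSubobject (_root_.Formal.smulModΓ M r))
    {V : Z.Opens} (hV : IsAffineOpen V) (s : Γ(M, V))
    (hs : res V r ^ N • s = 0) : ∃ w : Γ(M, V), s = res V r • w := by
  have happ : ∀ (q : Coh.Γtop Z) (x : Γ(M, V)),
      (_root_.Formal.smulModΓ M q).app V x = res V q • x := fun q x => rfl
  let g := _root_.Formal.smulModΓ M r
  let f := _root_.Formal.smulModΓ M (r ^ N)
  have w0 : g ≫ f = 0 := by
    rw [← imageSubobject_arrow_comp g, Category.assoc]
    have h1 : (imageSubobject g).arrow ≫ f = 0 := by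
      rw [← Subobject.ofLE_arrow h.ge, Category.assoc, kernelSubobject_arrow_comp, comp_zero]
    rw [h1, comp_zero]
  have hex : (ShortComplex.mk g f w0).Exact := (ShortComplex.exact_iff_image_eq_kernel _).2 h.symm
  haveI := hex.epi_kernelLift
  haveI : (kernel f).IsQuasicoherent := QCoh.Closure.isQCoh_kernel f
  obtain ⟨k, hk⟩ : ∃ k : Γ(kernel f, V), (kernel.ι f).app V k = s :=
    H78.Formal.Elem.exists_kernel_section f s (by rw [happ, res, map_pow]; exact hs)
  obtain ⟨w, hw⟩ := QCoh.Closure.sections_surjective_of_epi (kernel.lift f g w0) hV k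
  refine ⟨w, ?_⟩
  rw [← happ r w, ← hk, ← hw]
  exact congr(($(kernel.lift_ι f g w0)).app V w)

end Exact

variable {A : Type u} [CommRing A]

theorem regular (U : (Spec (CommRingCat.of A)).Opens) (t : A) (𝓘 : (U : Scheme.{u}).IdealSheafData)
    (𝔐 : FSch.ModSys (FSch.completionAlong (U : Scheme.{u}) 𝓘)) (hcoh : 𝔐.IsCoh)
    (hreg : ∀ N : ℕ, 1 ≤ N →
      kernelSubobject (_root_.Formal.smulModΓ (𝔐.F N)
        ((((FSch.completionToX (U : Scheme.{u}) 𝓘 N) ≫ U.ι).appTop.hom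
          ((Scheme.ΓSpecIso (CommRingCat.of A)).inv t)) ^ N)) =
      imageSubobject (_root_.Formal.smulModΓ (𝔐.F N)
        (((FSch.completionToX (U : Scheme.{u}) 𝓘 N) ≫ U.ι).appTop.hom
          ((Scheme.ΓSpecIso (CommRingCat.of A)).inv t)))) :
    Regular t (Functor.ofOpSequence
      (X := fun n => Sys.G (FSch.completionToX (U : Scheme.{u}) 𝓘) 𝔐 n)
      (Sys.T (FSch.completionToX (U : Scheme.{u}) 𝓘) (FSch.completionToX_comm (U : Scheme.{u}) 𝓘) 𝔐)) := by
  let p := FSch.completionToX (U : Scheme.{u}) 𝓘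
  let G := Functor.ofOpSequence (X := fun n => Sys.G (FSch.completionToX (U : Scheme.{u}) 𝓘) 𝔐 n)
      (Sys.T (FSch.completionToX (U : Scheme.{u}) 𝓘) (FSch.completionToX_comm (U : Scheme.{u}) 𝓘) 𝔐)
  haveI : ∀ k, IsClosedImmersion (p k) := fun k => inferInstance
  intro m W hW s hs
  haveI := (hcoh m).1
  have hV : IsAffineOpen (p m ⁻¹ᵁ W) := hW.preimage _
  let r : Coh.Γtop ((FSch.completionAlong (U : Scheme.{u}) 𝓘).X m) :=
    ((p m) ≫ U.ι).appTop.hom ((Scheme.ΓSpecIso (CommRingCat.of A)).inv t)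
  let ρ : Γ((FSch.completionAlong (U : Scheme.{u}) 𝓘).X m, p m ⁻¹ᵁ W) := res (p m ⁻¹ᵁ W) r
  have hρ : (p m).app W (sMap A W t) = ρ :=
    ConcreteCategory.congr_hom ((p m).naturality (homOfLE (le_top : W ≤ ⊤)).op) _
  have hsm : ∀ (k : ℕ) (x : Γ(𝔐.F m, p m ⁻¹ᵁ W)),
      (sMap A W t ^ k • (show Γ(G.obj (op m), W) from x)) = (ρ ^ k • x : Γ(𝔐.F m, p m ⁻¹ᵁ W)) := by
    intro k x
    change (p m).app W (sMap A W t ^ k) • x = ρ ^ k • x
    rw [map_pow, hρ]
  have hs' : ρ • (show Γ(𝔐.F m, p m ⁻¹ᵁ W) from s) = 0 := by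
    have := hsm 1 s
    rw [pow_one, pow_one] at this
    exact this.symm.trans hs
  suffices h : ∀ j ≤ m, ∃ w : Γ(𝔐.F m, p m ⁻¹ᵁ W),
      (show Γ(𝔐.F m, p m ⁻¹ᵁ W) from s) = ρ ^ j • w by
    obtain ⟨w, hw⟩ := h m le_rfl
    exact ⟨w, hw.trans (hsm m w).symm⟩
  intro j
  induction j with
  | zero => exact fun _ => ⟨s, by rw [pow_zero, one_smul]⟩
  | succ j ih =>
    intro hj
    obtain ⟨w, hw⟩ := ih (by omega)
    obtain ⟨v, hv⟩ := exists_eq_smul_of_kernel_eq_image r m (hreg m (by omega)) hV w (by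
      obtain ⟨d, hd⟩ := Nat.exists_eq_add_of_le hj
      show ρ ^ m • w = 0
      rw [show ρ ^ m = ρ ^ d * (ρ * ρ ^ j) by rw [← pow_succ', ← pow_add]; exact congrArg (ρ ^ ·) (by omega),
        mul_smul, mul_smul, ← hw, hs', smul_zero])
    refine ⟨v, hw.trans ?_⟩
    rw [hv, ← mul_smul, ← pow_succ]

theorem pullSys_eq {X : Scheme.{u}} {𝔛 : FSch.Sys.{u}} (p : ∀ n, 𝔛.X n ⟶ X)
    (hp : ∀ n, 𝔛.ι n ≫ p (n + 1) = p n) (F : X.Modules) :
    ComplSec.pullSys p hp F =
      ⟨fun n => (Scheme.Modules.pullback (p n)).obj F,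
        fun n => (Scheme.Modules.pullbackComp (𝔛.ι n) (p (n + 1))).app F ≪≫
          (Scheme.Modules.pullbackCongr (hp n)).app F⟩ := by
  unfold ComplSec.pullSys
  refine congrArg (FSch.ModSys.mk _) (funext fun n => Iso.ext ?_)
  rw [Iso.app_hom, Iso.trans_hom, NatTrans.comp_app, Iso.trans_hom, Iso.app_hom, Iso.app_hom]

theorem completionMod_eq (X : Scheme.{u}) (𝓘 : X.IdealSheafData) (F : X.Modules) :
    FSch.completionMod 𝓘 F =
      ComplSec.pullSys (FSch.completionToX X 𝓘) (FSch.completionToX_comm X 𝓘) F := by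
  rw [pullSys_eq]
  rfl

theorem exists_completionMod_iso [IsNoetherianRing A] (U : (Spec (CommRingCat.of A)).Opens) (t : A)
    [IsAdicComplete (Ideal.span ({t} : Set A)) A] (𝓘 : (U : Scheme.{u}).IdealSheafData)
    (h𝓘 : 𝓘 = (FSch.idealSpec A (Ideal.span ({t} : Set A))).comap U.ι)
    (𝔐 : FSch.ModSys (FSch.completionAlong (U : Scheme.{u}) 𝓘)) (hcoh : 𝔐.IsCoh)
    (hreg : ∀ N : ℕ, 1 ≤ N →
      kernelSubobject (_root_.Formal.smulModΓ (𝔐.F N)
        ((((FSch.completionToX (U : Scheme.{u}) 𝓘 N) ≫ U.ι).appTop.hom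
          ((Scheme.ΓSpecIso (CommRingCat.of A)).inv t)) ^ N)) =
      imageSubobject (_root_.Formal.smulModΓ (𝔐.F N)
        (((FSch.completionToX (U : Scheme.{u}) 𝓘 N) ≫ U.ι).appTop.hom
          ((Scheme.ΓSpecIso (CommRingCat.of A)).inv t))))
    (h0 : Module.Finite A (Coh.HH (U : Scheme.{u})
      ((Scheme.Modules.pushforward (FSch.completionToX (U : Scheme.{u}) 𝓘 0)).obj (𝔐.F 0)) 0))
    (h1 : Module.Finite A (Coh.HH (U : Scheme.{u})
      ((Scheme.Modules.pushforward (FSch.completionToX (U : Scheme.{u}) 𝓘 0)).obj (𝔐.F 0)) 1)) :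
    ∃ F : (U : Scheme.{u}).Modules, Coh.IsCoh F ∧ Nonempty (FSch.completionMod 𝓘 F ≅ 𝔐) := by
  haveI : IsLocallyNoetherian (U : Scheme.{u}) := inferInstance
  have h𝔛 := Groth.Agent.S3854.result (U : Scheme.{u}) 𝓘
  let p := FSch.completionToX (U : Scheme.{u}) 𝓘
  have hp := FSch.completionToX_comm (U : Scheme.{u}) 𝓘
  haveI : ∀ k, IsClosedImmersion (p k) := fun k => inferInstance
  let J := Ideal.span ({t} : Set A)
  have hI : ∀ k (W : (U : Scheme.{u}).affineOpens), (p k).ker.ideal W = sIdeal J W.1 ^ (k + 1) :=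
    fun k W => by
      rw [ComplSec.ker_completionToX, h𝓘]
      exact congrArg (· ^ (k + 1)) (ComplHom.ideal_idealSpec_comap J W)
  let G : ℕᵒᵖ ⥤ (U : Scheme.{u}).Modules :=
    Functor.ofOpSequence (X := fun n => Sys.G p 𝔐 n) (Sys.T p hp 𝔐)
  have hG : _root_.Formal.IsCohFormal J G := Sys.isCohFormal h𝔛 p hp J hI 𝔐 hcoh
  have hreg' : Regular t G := regular U t 𝓘 𝔐 hcoh hreg
  obtain ⟨F, hF, ⟨Φ⟩⟩ := exists_algebraization U t G hG hreg' h0 h1
  refine ⟨F, hF, ?_⟩
  rw [completionMod_eq]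
  exact SysIso.nonempty_iso_pullSys h𝔛 p hp J hI 𝔐 hF Φ

end Groth.Agent.Lib.PrincipalAlg.Bridge
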