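import Groth.Agent.Lib.PuncturedLC.FormalDepth
import Groth.Agent.Lib.Curves.LES
import Groth.Agent.H78.FormalFun.Basic
import Groth.Agent.Lib.LocalCoh.Resolution
import Groth.Agent.Lib.PushClosed.Unit
import Groth.Agent.Lib.Depth.Basic

/-!
# Finiteness of `H^0` and `H^1` on an open of an affine scheme under a depth hypothesis
-/

set_option linter.style.haveILetI false
set_option maxHeartbeats 800000

universe u

open CategoryTheory CategoryTheory.Limits AlgebraicGeometry Opposite TopologicalSpace

attribute [local instance] HasDerivedCategory.standard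

namespace Groth.Agent.Lib.PrincipalAlg.Finite

open Groth.Agent.Lib Groth.Agent.H78.Formal Groth.Agent.Lib.Curves.LES
open Groth.Agent.H78.FormalFun.Basic Groth.Agent.Lib.PuncturedLC

/-- The depth of a direct image along a closed immersion. -/
theorem le_depth_push {X P : Scheme.{u}} (i : X ⟶ P) [IsClosedImmersion i] (G : X.Modules) (d : ℕ∞)
    (y : P) (h : ∀ z : X, i z = y → d ≤ LocCoh.depth (X.presheaf.stalk z) (G.presheaf.stalk z)) :
    d ≤ LocCoh.depth (P.presheaf.stalk y) (((Coh.push i).obj G).presheaf.stalk y) := by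
  by_cases hr : y ∈ Set.range i
  · obtain ⟨z, rfl⟩ := hr
    letI : Algebra (P.presheaf.stalk (i z)) (X.presheaf.stalk z) := (i.stalkMap z).hom.toAlgebra
    letI : Module (P.presheaf.stalk (i z)) (G.presheaf.stalk z) :=
      Module.compHom _ (i.stalkMap z).hom
    haveI : IsScalarTower (P.presheaf.stalk (i z)) (X.presheaf.stalk z) (G.presheaf.stalk z) :=
      IsScalarTower.of_algebraMap_smul fun _ _ => rfl
    let φ : ((Scheme.Modules.pushforward i).obj G).presheaf.stalk (i z) →ₗ[P.presheaf.stalk (i z)]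
        G.presheaf.stalk z :=
      { toFun := DerivedOX.PullbackStalk.pushStalkMap i z G
        map_add' := fun a b => map_add _ a b
        map_smul' := fun c a => DerivedOX.PullbackStalk.pushStalkMap_smul i z G c a }
    let e := LinearEquiv.ofBijective φ (PushClosed.Unit.bijective_pushStalkMap i G z)
    refine le_of_le_of_eq (h z rfl) ?_
    refine Eq.trans ?_ (Depth.Basic.depth_congr e).symm
    exact (Depth.Basic.depth_eq_of_surjective (i.stalkMap_surjective z)).symm
  · haveI := PushClosed.Unit.subsingleton_stalk_push i G hr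
    exact le_of_le_of_eq le_top (Depth.Basic.idealDepth_subsingleton (I := _)).symm

variable {A : Type u} [CommRing A]

/-- An isomorphism of modules on cohomology, linear over the base. -/
noncomputable def mapKEquiv {X : Scheme.{u}} [X.Over (Spec (CommRingCat.of A))] {P Q : X.Modules}
    (φ : P ≅ Q) (p : ℕ) : Coh.HH X P p ≃ₗ[A] Coh.HH X Q p :=
  LinearEquiv.ofLinear (mapK A φ.hom p) (mapK A φ.inv p)
    (by rw [← mapK_comp, Iso.inv_hom_id, mapK_id]) (by rw [← mapK_comp, Iso.hom_inv_id, mapK_id])

lemma th_smul_κ {U : (Spec (CommRingCat.of A)).Opens} (M : Type u) [AddCommGroup M] [Module A M]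
    (p : ℕ) (c : A) (x : Coh.HH (U : Scheme.{u}) ((SectTower.Θ U).obj (ModuleCat.of A M)) p) :
    Bridge.κ M p (c • x) =
      Formal2.HVmap A (c • (LinearMap.id : M →ₗ[A] M)) p U (Bridge.κ M p x) := by
  refine Eq.trans ?_ (Bridge.κ_map _ _ _)
  refine congrArg (Bridge.κ M p) ?_
  rw [← H_smulMod p _ c x, SectTower.smulMod_Θ]
  rfl

variable [IsNoetherianRing A] (a : Ideal A) (M : Type u) [AddCommGroup M] [Module A M]

lemma Hf_smul (i : ℕ) (c : A) (x : Ha a i M) :
    Hf a i (c • (LinearMap.id : M →ₗ[A] M)) x = c • x := by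
  apply (toLC a M i).injective
  rw [toLC_natural, map_smul]
  exact LocalCoh.lc_map_smul_id a i (ModuleCat.of A M) c _

/-- `H^i(U, M~) → H^{i+1}_a(M)`, linear over the ring. -/
noncomputable def toHa (i : ℕ) :
    Coh.HH ((U a : (Spec (CommRingCat.of A)).Opens) : Scheme.{u})
      ((SectTower.Θ (U a)).obj (ModuleCat.of A M)) i →ₗ[A] Ha a (i + 1) M :=
  { ((ψ a M i).comp (Bridge.κ M i).toAddMonoidHom) with
    map_smul' := fun c x => by
      show ψ a M i (Bridge.κ M i (c • x)) = c • ψ a M i (Bridge.κ M i x)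
      rw [th_smul_κ, ψ_natural, Hf_smul] }

/-- `M → H^0(U, M~)`, linear over the ring. -/
noncomputable def ofM :
    M →ₗ[A] Coh.HH ((U a : (Spec (CommRingCat.of A)).Opens) : Scheme.{u})
      ((SectTower.Θ (U a)).obj (ModuleCat.of A M)) 0 :=
  { (Bridge.κ M 0).symm.toAddMonoidHom.comp (res₀ a M) with
    map_smul' := fun c m => by
      apply (Bridge.κ M 0).injective
      show Bridge.κ M 0 ((Bridge.κ M 0).symm (res₀ a M (c • m))) =
        Bridge.κ M 0 (c • (Bridge.κ M 0).symm (res₀ a M m))
      rw [th_smul_κ, AddEquiv.apply_symm_apply, AddEquiv.apply_symm_apply, res₀_natural]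
      rfl }

variable {R : Type u} [CommRing R] [IsRegularRing R] (π : R →+* A) (hπ : Function.Surjective π)

include hπ

/-- Finiteness of `H^0` and `H^1` when the depth at the points of relative codimension one is at
least two. -/
theorem finite_of_depth (V : (Spec (CommRingCat.of A)).Opens) (hV : V = U a)
    (F : (↑V : Scheme.{u}).Modules) (hF : Coh.IsCoh F)
    (hdepth : ∀ x : (↑V : Scheme.{u}), SGA2.relCodim a (V.ι.base x) = 1 →
      (2 : ℕ∞) ≤ LocCoh.depth ((↑V : Scheme.{u}).presheaf.stalk x) (F.presheaf.stalk x)) :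
    Module.Finite A (Coh.HH (↑V : Scheme.{u}) F 0) ∧ Module.Finite A (Coh.HH (↑V : Scheme.{u}) F 1) := by
  subst hV
  obtain ⟨M, _, _, _, ⟨e⟩⟩ := Bridge.exists_model hF
  have hfin : ∀ j ≤ 2, Module.Finite A (LocCoh.H a j M) :=
    (LCFin.FinitenessThm.finite_iff π hπ a M 2).2 fun p hp hc => by
      have h : p ∈ U a := hp
      have := hdepth ⟨p, h⟩ hc
      rw [Model.depth_stalk M e ⟨p, h⟩ p rfl] at this
      exact_mod_cast this
  have hHa : ∀ j ≤ 2, _root_.IsNoetherian A (Ha a j M) := fun j hj =>
    haveI := hfin j hj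
    haveI : Module.Finite A (Ha a j M) := Module.Finite.equiv (toLC a M j).symm
    isNoetherian_of_isNoetherianRing_of_finite A _
  constructor
  · haveI := hHa 1 (by omega)
    haveI : _root_.IsNoetherian A M := isNoetherian_of_isNoetherianRing_of_finite A _
    haveI := isNoetherian_of_range_eq_ker (ofM a M) (toHa a M 0) (by
      ext x
      rw [LinearMap.mem_range, LinearMap.mem_ker]
      refine Iff.trans ?_ (ψ_zero_eq_zero_iff a M (Bridge.κ M 0 x)).symm
      exact ⟨fun ⟨m, hm⟩ => ⟨m, ((congrArg (Bridge.κ M 0) hm).symm.trans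
        ((Bridge.κ M 0).apply_symm_apply _)).symm⟩,
        fun ⟨m, hm⟩ => ⟨m, (congrArg (Bridge.κ M 0).symm hm).trans ((Bridge.κ M 0).symm_apply_apply x)⟩⟩)
    haveI := Module.IsNoetherian.finite A
      (Coh.HH ((U a : (Spec (CommRingCat.of A)).Opens) : Scheme.{u}) ((SectTower.Θ (U a)).obj (ModuleCat.of A M)) 0)
    exact Module.Finite.equiv (mapKEquiv e 0).symm
  · haveI := hHa 2 le_rfl
    haveI := Module.Finite.of_injective (toHa a M 1)
      ((ψ_bijective a M 0).1.comp (Bridge.κ M 1).injective)
    exact Module.Finite.equiv (mapKEquiv e 1).symm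

end Groth.Agent.Lib.PrincipalAlg.Finite
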