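import Groth.Agent.Lib.PrincipalAlg.Bridge
import Groth.Agent.Lib.PrincipalAlg.Finite

/-!
# Algebraization on the complement of a closed set under depth two
-/

set_option autoImplicit false
set_option linter.style.haveILetI false
set_option maxHeartbeats 800000

universe u

open CategoryTheory CategoryTheory.Limits AlgebraicGeometry Opposite TopologicalSpace

namespace Groth.Agent.Lib.PrincipalAlg

open Groth.Agent.Lib

variable {A : Type u} [CommRing A] [IsNoetherianRing A]
  {R : Type u} [CommRing R] [IsRegularRing R] (π : R →+* A) (hπ : Function.Surjective π)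

include hπ

theorem exists_completionMod_iso_of_depth (t : A) [IsAdicComplete (Ideal.span ({t} : Set A)) A] (a : Ideal A)
    (V : (Spec (CommRingCat.of A)).Opens) (hV : V = PuncturedLC.U a) (𝓘 : (V : Scheme.{u}).IdealSheafData)
    (h𝓘 : 𝓘 = (FSch.idealSpec A (Ideal.span ({t} : Set A))).comap V.ι)
    (𝔐 : FSch.ModSys (FSch.completionAlong (V : Scheme.{u}) 𝓘)) (hcoh : 𝔐.IsCoh)
    (hreg : ∀ N : ℕ, 1 ≤ N →
      kernelSubobject (_root_.Formal.smulModΓ (𝔐.F N)
        ((((FSch.completionToX (V : Scheme.{u}) 𝓘 N) ≫ V.ι).appTop.hom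
          ((Scheme.ΓSpecIso (CommRingCat.of A)).inv t)) ^ N)) =
      imageSubobject (_root_.Formal.smulModΓ (𝔐.F N)
        (((FSch.completionToX (V : Scheme.{u}) 𝓘 N) ≫ V.ι).appTop.hom
          ((Scheme.ΓSpecIso (CommRingCat.of A)).inv t))))
    (hdepth : ∀ y : ↥((FSch.completionAlong (V : Scheme.{u}) 𝓘).X 0),
      SGA2.relCodim a ((FSch.completionToX (V : Scheme.{u}) 𝓘 0 ≫ V.ι).base y) = 1 →
        (2 : ℕ∞) ≤ LocCoh.depth (((FSch.completionAlong (V : Scheme.{u}) 𝓘).X 0).presheaf.stalk y)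
          ((𝔐.F 0).presheaf.stalk y)) :
    ∃ F : (V : Scheme.{u}).Modules, Coh.IsCoh F ∧ Nonempty (FSch.completionMod 𝓘 F ≅ 𝔐) := by
  let p := FSch.completionToX (V : Scheme.{u}) 𝓘 0
  haveI : IsLocallyNoetherian (V : Scheme.{u}) := inferInstance
  haveI : IsClosedImmersion p := inferInstance
  haveI : IsLocallyNoetherian ((FSch.completionAlong (V : Scheme.{u}) 𝓘).X 0) :=
    LocallyOfFiniteType.isLocallyNoetherian p
  obtain ⟨h0, h1⟩ := Finite.finite_of_depth a π hπ V hV ((Scheme.Modules.pushforward p).obj (𝔐.F 0))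
    (Cyc.PP.Push.isCoh_push p (hcoh 0)) fun x hx =>
      Finite.le_depth_push p (𝔐.F 0) 2 x fun z hz => hdepth z (by
        rw [← hx, ← hz]; rfl)
  exact Bridge.exists_completionMod_iso V t 𝓘 h𝓘 𝔐 hcoh hreg h0 h1

end Groth.Agent.Lib.PrincipalAlg
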